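import Mathlib
import Cfsg.Agent.Lib.H22.LenCh
import Cfsg.Agent.Lib.H67.L8a

set_option autoImplicit false

namespace H22.LenHyp

open Subgroup H22.LenCh H67.L8

universe u

lemma ch_drop {G : Type*} [Group G] {n : ℕ} {H : Subgroup G} (h : Ch (n + 1) H) : Ch n H := by
  obtain ⟨K, hK, hc⟩ := h
  exact hc.mono hK.le

lemma ch_le {G : Type*} [Group G] {m n : ℕ} (hmn : m ≤ n) {H : Subgroup G} (h : Ch n H) : Ch m H := by
  induction n, hmn using Nat.le_induction with
  | base => exact h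
  | succ n _ ih => exact ih (ch_drop h)

lemma ch_pg {G : Type*} [Group G] [Finite G] {m : ℕ} {X : Subgroup G} (hX : IsPGroup 2 X) (hm : ¬ Nat.card X ≤ 2 ^ m) :
    Ch (m + 1) X := by
  have : Fact (Nat.Prime 2) := ⟨Nat.prime_two⟩
  obtain ⟨n, hn⟩ := IsPGroup.iff_card.mp hX
  have hlt : m < n := by
    by_contra hle
    push Not at hle
    apply hm
    rw [hn]
    exact Nat.pow_le_pow_right (by norm_num) hle
  exact ch_le hlt (ch_of_card hn)

theorem hyp {G : Type u} [Group G] [Finite G] [IsSimpleGroup G] (hnc : ¬ IsMulCommutative G)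
    (h9 : ∀ c : Fin 10 → Subgroup G, ¬ StrictAnti c) {S : Subgroup G} (hS : Nat.card S = 2 ^ 7) : Hyp S where
  pg := IsPGroup.of_card hS
  card := hS
  nrm := by
    intro K hK hK1 hSK g hg
    rw [← norm_eq h9 hnc hS hK hK1 (fun s hs => mem_nz (hSK s hs))]
    exact mem_nz hg
  c6 := by
    intro X M hX hXM hM
    by_contra hno
    have h1 := ch_pg hX hno
    exact not_ch h9 _ ((h1.succ_of_lt hXM).succ_of_lt (lt_top_iff_ne_top.mpr hM))
  c5 := by
    intro X H M hX hXH hHM hM
    by_contra hno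
    have h1 := ch_pg hX hno
    exact not_ch h9 _ (((h1.succ_of_lt hXH).succ_of_lt hHM).succ_of_lt (lt_top_iff_ne_top.mpr hM))
  c3 := by
    intro E H1 H2 H3 M hE h01 h12 h23 h3M hM
    by_contra hno
    have h1 := ch_pg hE hno
    exact not_ch h9 _ (((((h1.succ_of_lt h01).succ_of_lt h12).succ_of_lt h23).succ_of_lt h3M).succ_of_lt
      (lt_top_iff_ne_top.mpr hM))

end H22.LenHyp
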