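import Cfsg.Agent.Lib.H22.RCSound
import Cfsg.Prelude.Def_ChevE6

/-!
Root coordinates for the data of type E6.
-/

set_option autoImplicit false

namespace H22.RCE6

open H22.RCPack H22.RCCheck

/-- packed root coordinates, type E6. -/
def tabE6 : ℕ := 0x10a2448d1210000010a1448d1210000010a144891210000010a144890a10000010a144890a00000010a142891210000010a142890a10000010a142890a00000010a142850a10000010a142850a00000010a142850200000010a042850a10000010a042850a00000010a042850200000010a042810200000010a04081020000001021428912100000102142890a100000102142890a000000102142850a100000102142850a0000001021428502000000102140850a100000102140850a00000010214085020000001021408102000000102042850a100000102042850a00000010204285020000001020428102000000102040850a100000102040850a0000001020408502000000102040810a100000102040810a00000010204081021000001020408101f0000010204080fa00000010204080f9f000001020407d020000001020407cfa0000001020407cf9f0000010203e810200000010203e7d0200000010203e7cfa00000010203e7cf9f00000101f408102000000101f407d02000000101f407cfa000000101f407cf9f00000101f3e7d02000000101f3e7cfa000000101f3e7cf9f00000101f3e78fa000000101f3e78f9f00000101f3e78f1f000000fa04081020000000fa03e81020000000fa03e7d020000000fa03e7cfa0000000fa03e7cf9f000000f9f3e7d020000000f9f3e7cfa0000000f9f3e7cf9f000000f9f3e78fa0000000f9f3e78f9f000000f9f3e78f1f000000f9f3c78fa0000000f9f3c78f9f000000f9f3c78f1f000000f9f3c74f1f000000f9e3c74f1f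

/-- Cartan matrix, type E6. -/
def matE6 (i j : ℕ) : ℤ := (([[2, 0, -1, 0, 0, 0], [0, 2, 0, -1, 0, 0], [-1, 0, 2, -1, 0, 0], [0, -1, -1, 2, -1, 0], [0, 0, 0, -1, 2, -1], [0, 0, 0, 0, -1, 2]] : List (List ℤ)).getD i []).getD j 0

theorem checkE6 : ckAll Cfsg.Lie.chevE6 tabE6 36 matE6 = true := by decide +kernel

/-- Root coordinates for the datum of type E6. -/
def rcE6 : RC Cfsg.Lie.chevE6 := H22.RCSound.ofCheck checkE6

end H22.RCE6
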