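import Cfsg.Agent.Lib.H22.RCSound
import Cfsg.Prelude.Def_ChevE7

/-!
Root coordinates for the data of type E7.
-/

set_option autoImplicit false

namespace H22.RCE7

open H22.RCPack H22.RCCheck

/-- packed root coordinates, type E7. -/
def tabE7 : ℕ := 0x89123488d121000085123488d121000085122488d121000085122468d121000085122468912100008512246890a100008512246890a00000850a2468d1210000850a246891210000850a246890a10000850a246890a00000850a244891210000850a244890a10000850a244890a00000850a244850a10000850a244850a00000850a244850200000850a144891210000850a144890a10000850a144890a00000850a144850a10000850a144850a00000850a144850200000850a142850a10000850a142850a00000850a142850200000850a1428102000008502142850a100008502142850a000008502142850200000850214281020000085021408102000008502040810200000810a144891210000810a144890a10000810a144890a00000810a144850a10000810a144850a00000810a144850200000810a142850a10000810a142850a00000810a142850200000810a142810200000810a042850a10000810a042850a00000810a042850200000810a042810200000810a0408102000008102142850a100008102142850a000008102142850200000810214281020000081021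408102000008102042850a100008102042850a00000810204285020000081020428102000008102040850a100008102040850a0000081020408502000008102040810a100008102040810a00000810204081021000081020408101f0000810204080fa00000810204080f9f000081020407d020000081020407cfa0000081020407cf9f0000810203e810200000810203e7d0200000810203e7cfa00000810203e7cf9f00008101f408102000008101f3e8102000008101f3e7d02000008101f3e7cfa000008101f3e7cf9f000080fa04081020000080fa03e81020000080fa03e7d020000080fa03e7cfa0000080fa03e7cf9f000080f9f3e81020000080f9f3e7d020000080f9f3e7cfa0000080f9f3e7cf9f000080f9f3c7d020000080f9f3c7cfa0000080f9f3c7cf9f000080f9f3c78fa0000080f9f3c78f9f000080f9f3c78f1f00007d020408102000007d01f408102000007d01f3e8102000007d01f3e7d02000007d01f3e7cfa000007d01f3e7cf9f00007cf9f3e8102000007cf9f3e7d02000007cf9f3e7cfa000007cf9f3e7cf9f00007cf9f3c7d02000007cf9f3c7cfa000007cf9f3c7cf9f00007cf9f3c78fa000007cf9f3c78f9f00007cf9f3c78f1f00007cf9e3c7d02000007cf9e3c7cfa000007cf9e3c7cf9f00007cf9e3c78fa000007cf9e3c78f9f00007cf9e3c78f1f00007cf9e3a78fa000007cf9e3a78f9f00007cf9e3a78f1f00007cf9e3a74f1f00007cf1e3a78fa000007cf1e3a78f9f00007cf1e3a78f1f00007cf1e3a74f1f00007cf1e3874f1f00007cf1d3874f1f000078f1d3874f1f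

/-- Cartan matrix, type E7. -/
def matE7 (i j : ℕ) : ℤ := (([[2, 0, -1, 0, 0, 0, 0], [0, 2, 0, -1, 0, 0, 0], [-1, 0, 2, -1, 0, 0, 0], [0, -1, -1, 2, -1, 0, 0], [0, 0, 0, -1, 2, -1, 0], [0, 0, 0, 0, -1, 2, -1], [0, 0, 0, 0, 0, -1, 2]] : List (List ℤ)).getD i []).getD j 0

theorem checkE7 : ckAll Cfsg.Lie.chevE7 tabE7 63 matE7 = true := by decide +kernel

/-- Root coordinates for the datum of type E7. -/
def rcE7 : RC Cfsg.Lie.chevE7 := H22.RCSound.ofCheck checkE7

end H22.RCE7
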