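import Cfsg.Agent.Lib.H22.RCSound
import Cfsg.Prelude.Def_ChevG2
import Cfsg.Prelude.Def_ChevB2
import Cfsg.Prelude.Def_ChevD4
import Cfsg.Prelude.Def_ChevF4

/-!
Root coordinates for the data of type G2, B2, D4, F4.
-/

set_option autoImplicit false

namespace H22.RCSmall

open H22.RCPack H22.RCCheck

/-- packed root coordinates, type G2. -/
def tabG2 : ℕ := 0x11a200000000000011a1000000000000112100000000000010a100000000000010a00000000000001021000000000000101f0000000000000fa00000000000000f9f0000000000000f1f0000000000000e9f0000000000000e9e

/-- Cartan matrix, type G2. -/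
def matG2 (i j : ℕ) : ℤ := (([[2, -3], [-1, 2]] : List (List ℤ)).getD i []).getD j 0

theorem checkG2 : ckAll Cfsg.Lie.chevG2 tabG2 6 matG2 = true := by decide +kernel

/-- Root coordinates for the datum of type G2. -/
def rcG2 : RC Cfsg.Lie.chevG2 := H22.RCSound.ofCheck checkG2

/-- packed root coordinates, type B2. -/
def tabB2 : ℕ := 0x112100000000000010a100000000000010a00000000000001021000000000000101f0000000000000fa00000000000000f9f0000000000000f1f

/-- Cartan matrix, type B2. -/
def matB2 (i j : ℕ) : ℤ := (([[2, -2], [-1, 2]] : List (List ℤ)).getD i []).getD j 0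

theorem checkB2 : ckAll Cfsg.Lie.chevB2 tabB2 4 matB2 = true := by decide +kernel

/-- Root coordinates for the datum of type B2. -/
def rcB2 : RC Cfsg.Lie.chevB2 := H22.RCSound.ofCheck checkB2

/-- packed root coordinates, type D4. -/
def tabD4 : ℕ := 0x42890a100000000042850a100000000042850a000000000042850210000000004285020000000000428102000000000040850a100000000040850a00000000004085021000000000408502000000000040810a00000000004081021000000000408101f0000000004080fa0000000000407d020000000000407d01f000000000407cfa0000000000407cf9f0000000003e810200000000003e7d0200000000003e7d01f0000000003e7cfa00000000003e7cf9f0000000003e78f9f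

/-- Cartan matrix, type D4. -/
def matD4 (i j : ℕ) : ℤ := (([[2, -1, 0, 0], [-1, 2, -1, -1], [0, -1, 2, 0], [0, -1, 0, 2]] : List (List ℤ)).getD i []).getD j 0

theorem checkD4 : ckAll Cfsg.Lie.chevD4 tabD4 12 matD4 = true := by decide +kernel

/-- Root coordinates for the datum of type D4. -/
def rcD4 : RC Cfsg.Lie.chevD4 := H22.RCSound.ofCheck checkD4

/-- packed root coordinates, type F4. -/
def tabF4 : ℕ := 0x44911a200000000044911a10000000004491121000000000448d121000000000448912100000000044890a100000000044890a0000000000428d121000000000428912100000000042890a100000000042890a000000000042850a100000000042850a000000000042850200000000004281020000000000408912100000000040890a100000000040890a000000000040850a100000000040850a0000000000408502000000000040810a100000000040810a00000000004081021000000000408101f0000000004080fa00000000004080f9f000000000407d020000000000407cfa0000000000407cf9f0000000004078fa00000000004078f9f0000000004078f1f0000000003e810200000000003e7d0200000000003e7cfa00000000003e7cf9f0000000003e78fa00000000003e78f9f0000000003e78f1f0000000003e74f1f0000000003c78fa00000000003c78f9f0000000003c78f1f0000000003c74f1f0000000003c70f1f0000000003c70e9f0000000003c70e9e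

/-- Cartan matrix, type F4. -/
def matF4 (i j : ℕ) : ℤ := (([[2, -1, 0, 0], [-1, 2, -2, 0], [0, -1, 2, -1], [0, 0, -1, 2]] : List (List ℤ)).getD i []).getD j 0

theorem checkF4 : ckAll Cfsg.Lie.chevF4 tabF4 24 matF4 = true := by decide +kernel

/-- Root coordinates for the datum of type F4. -/
def rcF4 : RC Cfsg.Lie.chevF4 := H22.RCSound.ofCheck checkF4

end H22.RCSmall
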