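import Cfsg.Agent.Lib.H22.StConj
import Cfsg.Agent.Lib.H22.ChevRC

/-!
Certificates for the Steinberg relations.
-/

set_option autoImplicit false

namespace H22.StTab

open H22.St H22.RCCheck H22.RCComb H22.ChevUni H22.ChevLex
open Cfsg.Lie (ChevalleyDatum)

abbrev Row := ℕ × ℕ × ℕ × ℤ × ℕ

theorem mk {D : ChevalleyDatum} {h : ℕ} (p n : List Row)
    (hp : ∀ i < D.rank, GoodAt D h i (D.simple i) false (p.getD i (0, 0, 0, 0, 0)))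
    (hn : ∀ i < D.rank, GoodAt D h i (D.neg (D.simple i)) true (n.getD i (0, 0, 0, 0, 0))) :
    StCert D h where
  pos i hi := ⟨_, hp i hi⟩
  neg i hi := ⟨_, hn i hi⟩

theorem certG2 : StCert Cfsg.Lie.chevG2 6 := mk
  [(1, 10, 2, 1, 1), (0, 8, 0, 1, 3)]
  [(1, 1, 9, -1, 1), (0, 3, 11, -1, 3)]
  (by decide +kernel) (by decide +kernel)

theorem certB2 : StCert Cfsg.Lie.chevB2 4 := mk
  [(1, 7, 1, 1, 1), (0, 6, 0, 1, 2)]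
  [(1, 0, 6, -1, 1), (0, 1, 7, 1, 2)]
  (by decide +kernel) (by decide +kernel)

theorem certD4 : StCert Cfsg.Lie.chevD4 12 := mk
  [(1, 19, 9, -1, 1), (0, 19, 5, 1, 1), (1, 16, 9, 1, 1), (1, 15, 9, 1, 1)]
  [(1, 4, 14, 1, 1), (0, 4, 18, -1, 1), (1, 7, 14, -1, 1), (1, 8, 14, -1, 1)]
  (by decide +kernel) (by decide +kernel)

theorem certF4 : StCert Cfsg.Lie.chevF4 24 := mk
  [(1, 34, 20, -1, 1), (0, 34, 14, 1, 1), (1, 28, 17, 1, 2), (2, 26, 22, 1, 1)]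
  [(1, 13, 27, 1, 1), (0, 13, 33, -1, 1), (1, 19, 30, 1, 2), (2, 21, 25, -1, 1)]
  (by decide +kernel) (by decide +kernel)

theorem certE6 : StCert Cfsg.Lie.chevE6 36 := mk
  [(2, 57, 29, -1, 1), (3, 47, 32, -1, 1), (0, 57, 15, 1, 1), (1, 47, 25, 1, 1), (3, 40, 32, 1, 1), (4, 38, 34, 1, 1)]
  [(2, 14, 42, 1, 1), (3, 24, 39, 1, 1), (0, 14, 56, -1, 1), (1, 24, 46, -1, 1), (3, 31, 39, -1, 1), (4, 33, 37, -1, 1)]
  (by decide +kernel) (by decide +kernel)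

theorem certE7 : StCert Cfsg.Lie.chevE7 63 := mk
  [(2, 94, 52, -1, 1), (3, 79, 56, -1, 1), (0, 94, 32, 1, 1), (1, 79, 47, 1, 1), (3, 70, 56, 1, 1), (4, 67, 59, 1, 1), (5, 65, 61, 1, 1)]
  [(2, 31, 73, 1, 1), (3, 46, 69, 1, 1), (0, 31, 93, -1, 1), (1, 46, 78, -1, 1), (3, 55, 69, -1, 1), (4, 58, 66, -1, 1), (5, 60, 64, -1, 1)]
  (by decide +kernel) (by decide +kernel)

theorem certE8 : StCert Cfsg.Lie.chevE8 120 := mk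
  [(2, 163, 104, -1, 1), (3, 142, 109, -1, 1), (0, 163, 77, 1, 1), (1, 142, 98, 1, 1), (3, 131, 109, 1, 1), (4, 127, 113, 1, 1), (5, 124, 116, 1, 1), (6, 122, 118, 1, 1)]
  [(2, 76, 135, 1, 1), (3, 97, 130, 1, 1), (0, 76, 162, -1, 1), (1, 97, 141, -1, 1), (3, 108, 130, -1, 1), (4, 112, 126, -1, 1), (5, 115, 123, -1, 1), (6, 117, 121, -1, 1)]
  (by decide +kernel) (by decide +kernel)

theorem exists_all {D : ChevalleyDatum} (hD : D ∈ [Cfsg.Lie.chevG2, Cfsg.Lie.chevB2, Cfsg.Lie.chevD4,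
    Cfsg.Lie.chevF4, Cfsg.Lie.chevE6, Cfsg.Lie.chevE7, Cfsg.Lie.chevE8]) :
    ∃ X : RCX D, Nonempty (Lex X.rc) ∧ StCert D X.rc.half := by
  simp only [List.mem_cons, List.not_mem_nil, or_false] at hD
  rcases hD with rfl | rfl | rfl | rfl | rfl | rfl | rfl
  · exact ⟨H22.PoinG2.rcxG2, ⟨lexG2⟩, certG2⟩
  · exact ⟨H22.PoinB2.rcxB2, ⟨lexB2⟩, certB2⟩
  · exact ⟨H22.PoinD4.rcxD4, ⟨lexD4⟩, certD4⟩
  · exact ⟨H22.PoinF4.rcxF4, ⟨lexF4⟩, certF4⟩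
  · exact ⟨H22.PoinE6.rcxE6, ⟨lexE6⟩, certE6⟩
  · exact ⟨H22.PoinE7.rcxE7, ⟨lexE7⟩, certE7⟩
  · exact ⟨H22.PoinE8.rcxE8, ⟨lexE8⟩, certE8⟩

end H22.StTab
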