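import Cfsg.Agent.Lib.H22.TorTw
import Cfsg.Agent.Lib.H22.PoinE7

/-!
Certificate for a self-centralising cyclic torus, type E7.
-/

set_option autoImplicit false

namespace H22.TorE7

open H22.TorusLat H22.TorusCore H22.TorusFix H22.RCComb H22.TorTw

/-- the word -/
def L : List (Fin Cfsg.Lie.chevE7.rank) := ([2, 6, 1, 3, 4, 2, 3, 0, 6, 5, 6, 4, 3] : List (Fin 7))

/-- intermediate vectors -/
def bt (s : ℕ) (j : Fin Cfsg.Lie.chevE7.rank) : ℤ :=
  (((([141973111, 141977207, 142042743, 125265527, 125265527, 142042743, 142042743, 142042743, 142042999, 141977463, 141977463, 141977463, 125200247, 125199991, 125195895, 125195895, 141973111, 141973111, 125195895, 125195895, 125199991, 125200247, 125265783, 125269879, 125269895, 142047111, 142047111, 142047111, 142047111, 125269895, 125269895, 142047111, 142047112, 142047112, 142047368, 142047368, 142051464, 142051464, 125274248, 125274248, 125270152, 125270152, 142047368, 143095944, 143095944, 143095944, 143100040, 143100040, 143231112,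 143235208, 143235224, 143235224, 143235480, 143239576, 143239576, 143239576, 144288152, 161065368, 161065369, 161061273, 161061273, 161061273, 161065369, 161065369, 144288153, 144288409, 144288409, 144353945, 161131161, 162179737, 162179737, 162179737, 162183833, 162183833, 162249369, 162249369, 162249385, 162249385, 162249385, 162253481, 162253481, 162253481, 162253481, 162253481, 162253481, 162249385, 162249385, 162183849, 162183849, 162183833, 162183833, 162183833] : List ℕ).getD s 0) >>> (4 * (j : ℕ)) % 16 : ℕ) : ℤ) - 8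

/-- inverse base change -/
def P (i j : Fin Cfsg.Lie.chevE7.rank) : ℤ := (([[1, 1, 0, -1, 0, 0, 0], [-1, 0, 0, 0, 0, 1, -1], [-1, 0, 0, 1, -1, 0, 1], [2, 1, -1, 0, 0, -1, 0], [-1, 0, 1, -1, 1, 0, -1], [-1, 0, 1, 0, -1, 1, 0], [1, 1, -1, 0, 0, 0, 0]] : List (List ℤ)).getD i []).getD j 0

/-- characteristic polynomial -/
def c (i : Fin Cfsg.Lie.chevE7.rank) : ℤ := (([1, 0, -1, 1, 1, -1, 0] : List ℤ)).getD i 0

/-- the cyclic vector -/
def b : Fin Cfsg.Lie.chevE7.nroots := (10 : Fin 126)

theorem v_b : v H22.PoinE7.rcxE7 b = bt 0 := by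
  funext j
  revert j
  decide +kernel

theorem cyc : Cyc (wM (coord H22.PoinE7.rcxE7).A L) (v H22.PoinE7.rcxE7 b) P c := by
  rw [v_b]
  exact cyc_of _ L bt P c (by decide) (by decide +kernel) (by decide +kernel) (by decide +kernel)

theorem bound : ∀ (r : Fin Cfsg.Lie.chevE7.nroots) (i : Fin Cfsg.Lie.chevE7.rank), |ac P (v H22.PoinE7.rcxE7 r) i| ≤ 2 := by
  decide +kernel

theorem div2 : DivM H22.PoinE7.rcxE7 (wM (coord H22.PoinE7.rcxE7).A L) P b (((117 : ℕ) : ℤ)) ((2 : ℕ) : ℤ) := by
  refine ⟨by decide +kernel, fun r hr h => absurd h ?_⟩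
  revert r
  decide +kernel

theorem div3 : DivM H22.PoinE7.rcxE7 (wM (coord H22.PoinE7.rcxE7).A L) P b (((1022 : ℕ) : ℤ)) ((3 : ℕ) : ℤ) := by
  refine ⟨by decide +kernel, fun r hr h => absurd h ?_⟩
  revert r
  decide +kernel

theorem div4 : DivM H22.PoinE7.rcxE7 (wM (coord H22.PoinE7.rcxE7).A L) P b (((15665 : ℕ) : ℤ)) ((4 : ℕ) : ℤ) := by
  refine ⟨by decide +kernel, fun r hr h => absurd h ?_⟩
  revert r
  decide +kernel

theorem div5 : DivM H22.PoinE7.rcxE7 (wM (coord H22.PoinE7.rcxE7).A L) P b (((37863 : ℕ) : ℤ)) ((5 : ℕ) : ℤ) := by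
  refine ⟨by decide +kernel, fun r hr h => absurd h ?_⟩
  revert r
  decide +kernel

theorem div7 : DivM H22.PoinE7.rcxE7 (wM (coord H22.PoinE7.rcxE7).A L) P b (((404716 : ℕ) : ℤ)) ((7 : ℕ) : ℤ) := by
  refine ⟨by decide +kernel, fun r hr h => absurd h ?_⟩
  revert r
  decide +kernel

end H22.TorE7
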