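import Cfsg.Agent.Lib.H22.TwTab

/-!
Tables for the twisted groups of types E6, D4, F4.
-/

set_option autoImplicit false
set_option maxRecDepth 100000

namespace H22.TwDat

open H22.RGD H22.Coord H22.RCCheck H22.RCComb H22.TwTab H22.TwChev
open Cfsg.Lie (ChevalleyDatum)

/-- tables of type E6 -/
def ttE6 : TT where
  n' := Cfsg.Lie.chevF4.nroots
  h' := 24
  l' := Cfsg.Lie.chevF4.rank
  cl := [0, 1, 2, 3, 7, 3, 4, 8, 5, 9, 11, 6, 10, 12, 13, 14, 7, 8, 15, 9, 16, 18, 11, 18, 21, 23, 10, 17, 19, 20, 12, 19, 22, 13, 20, 14, 33, 27, 34, 25, 28, 35, 27, 28, 30, 37, 24, 26, 29, 36, 29, 31, 38, 32, 39, 40, 33, 34, 35, 37, 41, 36, 38, 42, 39, 43, 44, 40, 44, 45, 46, 47]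
  rho := [0, 1, 2, 5, 16, 3, 6, 17, 8, 19, 22, 11, 26, 30, 33, 35, 4, 7, 18, 9, 20, 23, 10, 21, 24, 25, 12, 27, 31, 34, 13, 28, 32, 14, 29, 15, 56, 42, 57, 39, 43, 58, 37, 40, 44, 59, 46, 47, 50, 61, 48, 51, 62, 53, 64, 67, 36, 38, 41, 45, 60, 49, 52, 63, 54, 65, 68, 55, 66, 69, 70, 71]
  pi := [5, 1, 4, 3, 2, 0]
  words := [[0, 5], [2, 4], [3], [1]]
  bk := [[0], [1], [2], [5, 3], [6], [8], [11], [16, 4], [17, 7], [19, 9], [26, 12], [22, 10], [30, 13], [33, 14], [15, 35], [18], [20], [27], [23, 21], [31, 28], [29, 34], [24], [32], [25], [46], [39], [47], [42, 37], [43, 40], [50, 48], [44], [51], [53], [56, 36], [57, 38], [58, 41], [61, 49], [59, 45], [62, 52], [64, 54], [67, 55], [60], [63], [65], [68, 66], [69], [70], [71]]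
  ords := [[24, 25, 27, 26, 28, 34, 29, 30, 35, 31, 36, 37, 32, 38, 41, 39, 42, 40, 43, 44, 45, 46, 47], [24, 25, 33, 26, 28, 34, 29, 30, 35, 31, 36, 37, 32, 38, 41, 39, 42, 40, 43, 44, 45, 46, 47], [24, 27, 33, 26, 28, 34, 29, 30, 35, 31, 36, 37, 32, 38, 41, 39, 42, 40, 43, 44, 45, 46, 47], [25, 27, 33, 26, 28, 34, 29, 30, 35, 31, 36, 37, 32, 38, 41, 39, 42, 40, 43, 44, 45, 46, 47]]

/-- tables of type D4 -/
def ttD4 : TT where
  n' := Cfsg.Lie.chevG2.nroots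
  h' := 6
  l' := Cfsg.Lie.chevG2.rank
  cl := [0, 1, 2, 2, 3, 4, 2, 3, 3, 5, 4, 4, 7, 7, 6, 8, 8, 9, 7, 8, 9, 9, 10, 11]
  rho := [0, 1, 6, 2, 7, 10, 3, 8, 4, 9, 11, 5, 18, 12, 14, 19, 15, 20, 13, 16, 21, 17, 22, 23]
  pi := [2, 1, 3, 0]
  words := [[0, 2, 3], [1]]
  bk := [[0], [1], [6, 3, 2], [8, 7, 4], [5, 10, 11], [9], [14], [18, 13, 12], [19, 16, 15], [21, 20, 17], [22], [23]]
  ords := [[6, 8, 9, 10, 11], [7, 8, 9, 10, 11]]

/-- tables of type F4 -/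
def ttF4 : TT where
  n' := 16
  h' := 8
  l' := 2
  cl := [4, 2, 3, 4, 5, 6, 4, 2, 3, 5, 1, 6, 2, 6, 7, 1, 2, 0, 4, 0, 0, 6, 0, 7, 8, 15, 9, 15, 15, 11, 15, 13, 14, 8, 9, 13, 9, 14, 10, 12, 13, 11, 9, 10, 11, 12, 13, 11]
  rho := [3, 7, 8, 0, 9, 11, 18, 1, 2, 4, 15, 5, 16, 21, 23, 10, 12, 19, 6, 17, 22, 13, 20, 14, 33, 27, 34, 25, 30, 41, 28, 35, 37, 24, 26, 31, 42, 32, 43, 45, 46, 29, 36, 38, 47, 39, 40, 44]
  pi := [3, 2, 1, 0]
  words := [[0, 3], [1, 2, 1, 2]]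
  bk := [[20, 22, 19, 17], [10, 15], [12, 1, 7, 16], [2, 8], [6, 3, 0, 18], [4, 9], [13, 5, 11, 21], [14, 23], [33, 24], [26, 34, 36, 42], [38, 43], [29, 41, 44, 47], [39, 45], [31, 35, 40, 46], [32, 37], [27, 25, 28, 30]]
  ords := [[9, 10, 11, 12, 13, 14, 15], [14, 13, 12, 11, 10, 9, 8]]


/-- reflections of the root data of the dihedral group of order 16 -/
def rfT : List (List ℕ) := [[6, 5, 4, 3, 2, 1, 0, 8, 7, 15, 14, 13, 12, 11, 10, 9], [15, 7, 6, 5, 4, 3, 2, 1, 14, 13, 12, 11, 10, 9, 8, 0]]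
/-- reflections of the root data of the dihedral group of order 16 -/
def rf16 (J c : ℕ) : ℕ := (rfT.getD J []).getD c 0
/-- simple roots -/
def sm16 (J : ℕ) : ℕ := ([8, 15] : List ℕ).getD J 0

theorem rf16_lt : ∀ J : Fin 2, ∀ c : Fin 16, rf16 J c < 16 := by decide
theorem rf16_rf16 : ∀ J : Fin 2, ∀ c : Fin 16, rf16 J (rf16 J c) = c := by decide

/-- the root data of the dihedral group of order 16 -/
def C16 : RootComb (Fin 16) (Fin 2) where
  pos c := 8 ≤ c.val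
  neg c := ⟨15 - c.val, by omega⟩
  simple J := ⟨sm16 J, by revert J; decide⟩
  refl J :=
    { toFun := fun c => ⟨rf16 J c, rf16_lt J c⟩
      invFun := fun c => ⟨rf16 J c, rf16_lt J c⟩
      left_inv := fun c => Fin.ext (rf16_rf16 J c)
      right_inv := fun c => Fin.ext (rf16_rf16 J c) }
  neg_neg c := by apply Fin.ext; show 15 - (15 - c.val) = c.val; omega
  pos_neg c := by show 8 ≤ 15 - c.val ↔ ¬ 8 ≤ c.val; omega
  simple_pos J := by revert J; decide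
  refl_simple J := by revert J; decide
  refl_neg J c := by revert J c; decide
  refl_refl J c := Fin.ext (rf16_rf16 J c)
  refl_pos J c := by
    revert J c
    show ∀ J : Fin 2, ∀ c : Fin 16, 8 ≤ c.val → c ≠ (⟨sm16 J, _⟩ : Fin 16) → 8 ≤ rf16 J c
    decide

theorem ck1_E6 : ttE6.ck1 36 = true := by decide +kernel
theorem ck2_E6 : ttE6.ck2 Cfsg.Lie.chevE6 Cfsg.Lie.chevF4.simple = true := by decide +kernel
theorem ck3_E6 : ttE6.ck3 Cfsg.Lie.chevE6 36 Cfsg.Lie.chevF4.reflectRoot = true := by decide +kernel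
theorem ck4_E6 : ttE6.ck4 Cfsg.Lie.chevE6 36 = true := by decide +kernel
theorem ck5_E6 : ttE6.ck5 Cfsg.Lie.chevE6 = true := by decide +kernel
theorem ck6_E6 : ttE6.ck6 Cfsg.Lie.chevE6 = true := by decide +kernel
theorem ck7_E6 : ttE6.ck7 36 = true := by decide +kernel
theorem ck8_E6 : ttE6.ck8 Cfsg.Lie.chevE6 Cfsg.Lie.chevF4.simple = true := by decide +kernel

theorem ck1_D4 : ttD4.ck1 12 = true := by decide +kernel
theorem ck2_D4 : ttD4.ck2 Cfsg.Lie.chevD4 Cfsg.Lie.chevG2.simple = true := by decide +kernel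
theorem ck3_D4 : ttD4.ck3 Cfsg.Lie.chevD4 12 Cfsg.Lie.chevG2.reflectRoot = true := by decide +kernel
theorem ck4_D4 : ttD4.ck4 Cfsg.Lie.chevD4 12 = true := by decide +kernel
theorem ck5_D4 : ttD4.ck5 Cfsg.Lie.chevD4 = true := by decide +kernel
theorem ck6_D4 : ttD4.ck6 Cfsg.Lie.chevD4 = true := by decide +kernel
theorem ck7_D4 : ttD4.ck7 12 = true := by decide +kernel
theorem ck8_D4 : ttD4.ck8 Cfsg.Lie.chevD4 Cfsg.Lie.chevG2.simple = true := by decide +kernel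

theorem ck1_F4 : ttF4.ck1 24 = true := by decide +kernel
theorem ck2_F4 : ttF4.ck2 Cfsg.Lie.chevF4 sm16 = true := by decide +kernel
theorem ck3_F4 : ttF4.ck3 Cfsg.Lie.chevF4 24 rf16 = true := by decide +kernel
theorem ck4_F4 : ttF4.ck4 Cfsg.Lie.chevF4 24 = true := by decide +kernel
theorem ck5_F4 : ttF4.ck5 Cfsg.Lie.chevF4 = true := by decide +kernel
theorem ck6_F4 : ttF4.ck6 Cfsg.Lie.chevF4 = true := by decide +kernel
theorem ck7_F4 : ttF4.ck7 24 = true := by decide +kernel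
theorem ck8_F4 : ttF4.ck8 Cfsg.Lie.chevF4 sm16 = true := by decide +kernel

end H22.TwDat
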