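import Mathlib
import Cfsg.Agent.Lib.H97.AschHex2
import Cfsg.Agent.Lib.H97.AschNil

set_option autoImplicit false
set_option linter.unusedSectionVars false

namespace H22.U35C

open Cfsg Cfsg.Geo Matrix H97.AschRad H97.AschEnv H97.AschNonab H97.AschGrp H97.AschLinear H97.AschIdem H97.AschDecomp
open H97.AschForm H97.AschSubfield H97.AschReal H97.AschNCU H97.AschUSymp H97.AschUPair H97.AschUElim H97.AschPauli
open H97.AschCases H97.AschNC H97.AschHex H97.AschNil
open H96.AschSympType1 H96.AschSympType2 H96.AschSympType3 H96.AschSubForm H96.AschSympType5 H96.AschAdj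
open H96.AschComm H96.AschField H96.AschSympEx
open H96.AschSp H96.AschSp2 H96.AschSU H96.AschSU2 H96.AschOdd2 H96.AschDescent H96.AschSU3

variable {F : Type*} [Field F] [Fintype F] {q : ℕ} {σ : F ≃+* F}

/-- cubes are trivial -/
lemma cube {R : Subgroup (GL (Fin 3) F)} (h1 : IsSymplecticTypeGroup 3 R) {g : GL (Fin 3) F} (hg : g ∈ R) : g ^ 3 = 1 := by
  have h := Monoid.pow_exponent_eq_one (⟨g, hg⟩ : R)
  rw [h1.exponent_eq] at h
  have h3 : 3 * Nat.gcd 2 3 = 3 := by decide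
  rw [h3] at h
  exact congrArg Subtype.val h

/-- noncommuting elements and the commutator -/
lemma pair {R : Subgroup (GL (Fin 3) F)} (h1 : IsSymplecticTypeGroup 3 R) (h2 : ActsAbsolutelyIrreducibly (matrixSet R))
    (h4 : Nat.card R = 27) (h5 : Nat.card (Subgroup.center R) = 3) :
    (∀ g ∈ R, ∀ k ∈ R, ∃ c : F, c ^ 3 = 1 ∧ (g : Matrix (Fin 3) (Fin 3) F) * k = c • ((k : Matrix (Fin 3) (Fin 3) F) * g)) ∧
    ∃ x ∈ R, ∃ y ∈ R, ∃ c : F, c ^ 3 = 1 ∧ c ≠ 1 ∧
      (x : Matrix (Fin 3) (Fin 3) F) * y = c • ((y : Matrix (Fin 3) (Fin 3) F) * x) := by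
  have hfin : Finite R := Subtype.finite
  have hfull : Full R := full_of_absIrr h2
  have hcen : ∀ z : R, z ∈ Subgroup.center R → (z : GL (Fin 3) F) ∈ scalars (Fin 3) F := by
    intro z hz
    rw [center_eq hfull] at hz
    exact hz
  have hq9 : Nat.card (R ⧸ Subgroup.center R) = 3 ^ 2 := by
    have := Subgroup.card_eq_card_quotient_mul_card_subgroup (Subgroup.center R)
    rw [h4, h5] at this
    omega
  have hcomm : ∀ a b : R, a * b * a⁻¹ * b⁻¹ ∈ Subgroup.center R := by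
    intro a b
    have : Fact (Nat.Prime 3) := ⟨Nat.prime_three⟩
    have hab := IsPGroup.commutative_of_card_eq_prime_sq hq9 (a : R ⧸ Subgroup.center R) (b : R ⧸ Subgroup.center R)
    rw [← QuotientGroup.eq_one_iff]
    change (a : R ⧸ Subgroup.center R) * (b : R ⧸ Subgroup.center R) * (a : R ⧸ Subgroup.center R)⁻¹ *
      (b : R ⧸ Subgroup.center R)⁻¹ = 1
    rw [hab]
    group
  have key : ∀ g ∈ R, ∀ k ∈ R, ∃ c : F, c ^ 3 = 1 ∧ (g : Matrix (Fin 3) (Fin 3) F) * k = c • ((k : Matrix (Fin 3) (Fin 3) F) * g) := by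
    intro g hg k hk
    have h6 := hcen _ (hcomm ⟨g, hg⟩ ⟨k, hk⟩)
    obtain ⟨c, hc⟩ := mem_scalars_sc.mp h6
    have hc' : g * k * g⁻¹ * k⁻¹ = sc (Fin 3) c := hc.symm
    have hc3 : sc (Fin 3) (c ^ 3) = sc (Fin 3) (1 : Fˣ) := by
      rw [map_pow, ← hc', map_one]
      exact cube h1 (R.mul_mem (R.mul_mem (R.mul_mem hg hk) (R.inv_mem hg)) (R.inv_mem hk))
    have hc3' : c ^ 3 = 1 := sc_injective hc3
    refine ⟨c, ?_, ?_⟩
    · rw [← Units.val_pow_eq_pow_val, hc3', Units.val_one]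
    · have h7 : g * k = sc (Fin 3) c * (k * g) := by
        rw [← hc']; group
      have h8 := congrArg Units.val h7
      rw [Units.val_mul, Units.val_mul, Units.val_mul, sc_val, Matrix.smul_mul, one_mul] at h8
      exact h8
  refine ⟨key, ?_⟩
  by_contra hno
  push Not at hno
  have hab : ∀ a b : R, a * b = b * a := by
    intro a b
    obtain ⟨c, hc, hcc⟩ := key a a.2 b b.2
    have hc1 : c = 1 := by
      by_contra h
      exact hno a a.2 b b.2 c hc h hcc
    rw [hc1, one_smul] at hcc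
    apply Subtype.ext
    apply Units.ext
    exact hcc
  have : Subgroup.center R = ⊤ := by
    rw [eq_top_iff]
    intro z _
    rw [Subgroup.mem_center_iff]
    intro g
    exact hab g z
  rw [this, Subgroup.card_top, h4] at h5
  omega

/-- elements of the group are isometries -/
lemma unitary (h : Ctx (F := F) σ 3 q) (hq : q = 5) {R : Subgroup (GL (Fin 3) F)} (h1 : IsSymplecticTypeGroup 3 R)
    (h3 : R ≤ similarityGroup (hermForm 3 F q)) {g : GL (Fin 3) F} (hg : g ∈ R) (u v : Fin 3 → F) :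
    hermForm 3 F q ((g : Matrix (Fin 3) (Fin 3) F) *ᵥ u) ((g : Matrix (Fin 3) (Fin 3) F) *ᵥ v) = hermForm 3 F q u v := by
  obtain ⟨a, ha⟩ := h3 hg
  have he : hermForm 3 F q (Pi.single 0 1) (Pi.single 0 1) = (1 : F) := by rw [h.single, if_pos rfl]
  have hσ : σ (a : F) = a := by
    have h6 := ha (Pi.single 0 1) (Pi.single 0 1)
    rw [he, mul_one] at h6
    have h7 := h.form.herm ((g : Matrix (Fin 3) (Fin 3) F) *ᵥ Pi.single 0 1) ((g : Matrix (Fin 3) (Fin 3) F) *ᵥ Pi.single 0 1)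
    rw [one_mul, h6] at h7
    exact h7.symm
  have ha4 : (a : F) ^ 4 = 1 := by
    rw [h.val, hq] at hσ
    have : (a : F) * ((a : F) ^ 4 - 1) = 0 := by linear_combination hσ
    rcases mul_eq_zero.mp this with h8 | h8
    · exact absurd h8 a.ne_zero
    · exact sub_eq_zero.mp h8
  have ha3 : (a : F) ^ 3 = 1 := by
    have h6 : ∀ u v, hermForm 3 F q u v = (a : F) ^ 3 * hermForm 3 F q u v := by
      intro u v
      have h7 := cube h1 hg
      have h8 : (g : Matrix (Fin 3) (Fin 3) F) * g * g = 1 := by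
        have := congrArg Units.val h7
        rw [Units.val_pow_eq_pow_val, Units.val_one] at this
        rw [← this]; noncomm_ring
      have h9 : ∀ u, (g : Matrix (Fin 3) (Fin 3) F) *ᵥ ((g : Matrix (Fin 3) (Fin 3) F) *ᵥ ((g : Matrix (Fin 3) (Fin 3) F) *ᵥ u)) = u := by
        intro u
        rw [Matrix.mulVec_mulVec, Matrix.mulVec_mulVec, h8, Matrix.one_mulVec]
      conv_lhs => rw [← h9 u, ← h9 v]
      rw [ha, ha, ha]; ring
    have h7 := h6 (Pi.single 0 1) (Pi.single 0 1)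
    rw [he, mul_one] at h7
    exact h7.symm
  have ha1 : (a : F) = 1 := by
    have : (a : F) ^ 4 = (a : F) ^ 3 * a := by ring
    rw [ha4, ha3, one_mul] at this
    exact this.symm
  rw [ha, ha1, one_mul]

lemma comm3 {c : F} (hc : c ^ 3 = 1) {G E X : Matrix (Fin 3) (Fin 3) F} (h1 : G * X = c • (X * G))
    (h2 : E * X = c • (X * E)) : G * (E * E) * X = X * (G * (E * E)) := by
  calc G * (E * E) * X = G * (E * (E * X)) := by simp only [Matrix.mul_assoc]
    _ = c • (G * ((E * X) * E)) := by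
        conv_lhs => rw [h2]
        simp only [Matrix.mul_assoc, Matrix.mul_smul]
    _ = c • c • ((G * X) * (E * E)) := by
        rw [h2]
        simp only [Matrix.mul_assoc, Matrix.mul_smul, Matrix.smul_mul]
    _ = (c ^ 3) • (X * (G * (E * E))) := by
        rw [h1, smul_smul]
        simp only [Matrix.mul_assoc, Matrix.smul_mul, smul_smul]
        congr 1
        ring
    _ = X * (G * (E * E)) := by rw [hc, one_smul]

lemma ypow {c : F} {X Y : Matrix (Fin 3) (Fin 3) F} (h : Y * X = c • (X * Y)) (k : ℕ) : Y ^ k * X = c ^ k • (X * Y ^ k) := by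
  induction k with
  | zero => simp
  | succ k ih =>
    rw [pow_succ', Matrix.mul_assoc, ih, Matrix.mul_smul, ← Matrix.mul_assoc, h, Matrix.smul_mul, smul_smul,
      Matrix.mul_assoc, pow_succ]

theorem frame (h : Ctx (F := F) σ 3 q) (hq : q = 5) {R : Subgroup (GL (Fin 3) F)} (h1 : IsSymplecticTypeGroup 3 R)
    (h2 : ActsAbsolutelyIrreducibly (matrixSet R)) (h3 : R ≤ similarityGroup (hermForm 3 F q))
    (h4 : Nat.card R = 27) (h5 : Nat.card (Subgroup.center R) = 3) :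
    ∃ (w : Fin 3 → Fin 3 → F) (ω : F) (x y : GL (Fin 3) F), ω ^ 2 + ω + 1 = 0 ∧ ω ≠ 1 ∧
      (∀ i j, hermForm 3 F q (w i) (w j) = if i = j then 1 else 0) ∧ x ∈ R ∧ y ∈ R ∧
      (∀ i, (x : Matrix (Fin 3) (Fin 3) F) *ᵥ w i = ω ^ (i : ℕ) • w i) ∧
      (∀ i, (y : Matrix (Fin 3) (Fin 3) F) *ᵥ w i = w (i + 1)) ∧
      ∀ g ∈ R, ∃ a b c : ℕ, (g : Matrix (Fin 3) (Fin 3) F) =
        ω ^ c • ((x : Matrix (Fin 3) (Fin 3) F) ^ a * (y : Matrix (Fin 3) (Fin 3) F) ^ b) := by
  classical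
  have hS := h.form.sesq
  obtain ⟨hkey, x, hx, y, hy, ω, hω3, hω1, hxy⟩ := pair h1 h2 h4 h5
  have hω0 : ω ≠ 0 := by rintro rfl; norm_num at hω3
  have hω : ω ^ 2 + ω + 1 = 0 := by
    have : (ω - 1) * (ω ^ 2 + ω + 1) = 0 := by linear_combination hω3
    exact (mul_eq_zero.mp this).resolve_left (sub_ne_zero.mpr hω1)
  have hF : Fintype.card F = 25 := by rw [h.card, hq]; norm_num
  have h5F : (5 : F) = 0 := by
    have h6 : ((25 : ℕ) : F) = 0 := by rw [← hF]; exact FiniteField.cast_card_eq_zero F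
    have h7 : (5 : F) * 5 = 0 := by
      have : (5 : F) * 5 = ((25 : ℕ) : F) := by norm_num
      rw [this, h6]
    exact mul_self_eq_zero.mp h7
  have h3F : (3 : F) ≠ 0 := by
    intro h0
    have : (1 : F) = 0 := by linear_combination 2 * h0 - h5F
    exact one_ne_zero this
  have hcub : ∀ g ∈ R, ∀ u, (g : Matrix (Fin 3) (Fin 3) F) *ᵥ ((g : Matrix (Fin 3) (Fin 3) F) *ᵥ ((g : Matrix (Fin 3) (Fin 3) F) *ᵥ u)) = u := by
    intro g hg u
    have h7 := cube h1 hg
    have h8 : (g : Matrix (Fin 3) (Fin 3) F) * g * g = 1 := by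
      have := congrArg Units.val h7
      rw [Units.val_pow_eq_pow_val, Units.val_one] at this
      rw [← this]; noncomm_ring
    rw [Matrix.mulVec_mulVec, Matrix.mulVec_mulVec, h8, Matrix.one_mulVec]
  have hX := hcub x hx
  have hY := hcub y hy
  have hXY : ∀ u, (x : Matrix (Fin 3) (Fin 3) F) *ᵥ ((y : Matrix (Fin 3) (Fin 3) F) *ᵥ u) =
      ω • ((y : Matrix (Fin 3) (Fin 3) F) *ᵥ ((x : Matrix (Fin 3) (Fin 3) F) *ᵥ u)) := by
    intro u
    rw [Matrix.mulVec_mulVec, hxy, Matrix.smul_mulVec, Matrix.mulVec_mulVec]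
  set X := (x : Matrix (Fin 3) (Fin 3) F) with hXdef
  set Y := (y : Matrix (Fin 3) (Fin 3) F) with hYdef
  have hYinj : ∀ u, Y *ᵥ u = 0 → u = 0 := by
    intro u hu
    rw [← hY u, hu, Matrix.mulVec_zero, Matrix.mulVec_zero]
  -- an eigenvector
  obtain ⟨v, hv0, hv⟩ : ∃ v : Fin 3 → F, v ≠ 0 ∧ X *ᵥ v = v := by
    have he : ∃ (v : Fin 3 → F) (k : ℕ), v ≠ 0 ∧ X *ᵥ v = ω ^ k • v := by
      let v0 : Fin 3 → F := Pi.single 0 1
      have hv0 : v0 ≠ 0 := by
        intro h0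
        have := congrFun h0 0
        simp [v0] at this
      let u : ℕ → (Fin 3 → F) := fun k => v0 + ω ^ (2 * k) • (X *ᵥ v0) + ω ^ (4 * k) • (X *ᵥ (X *ᵥ v0))
      have hu : ∀ k, X *ᵥ u k = ω ^ k • u k := by
        intro k
        simp only [u]
        rw [Matrix.mulVec_add, Matrix.mulVec_add, Matrix.mulVec_smul, Matrix.mulVec_smul, hX, smul_add, smul_add,
          smul_smul, smul_smul]
        have e1 : ω ^ k * ω ^ (2 * k) = 1 := by
          rw [← pow_add, show k + 2 * k = 3 * k by ring, pow_mul, hω3, one_pow]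
        have e2 : ω ^ k * ω ^ (4 * k) = ω ^ (2 * k) := by
          rw [← pow_add, show k + 4 * k = 3 * k + 2 * k by ring, pow_add, pow_mul, hω3, one_pow, one_mul]
        have e3 : ω ^ (4 * k) = ω ^ k := by
          rw [show 4 * k = 3 * k + k by ring, pow_add, pow_mul, hω3, one_pow, one_mul]
        rw [e1, e2, e3, one_smul]
        abel
      by_contra hno
      push Not at hno
      have hu0 : ∀ k, u k = 0 := by
        intro k
        by_contra h0
        exact hno (u k) k h0 (hu k)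
      apply hv0
      have e := hu0 0
      have e' := hu0 1
      have e'' := hu0 2
      simp only [u] at e e' e''
      have hsum : (3 : F) • v0 = 0 := by
        have e4 : (1 : F) + ω ^ 2 + ω ^ 4 = 0 := by linear_combination (ω ^ 2 - ω + 1) * hω
        have e8 : (1 : F) + ω ^ 4 + ω ^ 8 = 0 := by
          linear_combination (ω ^ 6 - ω ^ 5 + ω ^ 3 - ω + 1) * hω
        have : (3 : F) • v0 = (v0 + ω ^ (2 * 0) • (X *ᵥ v0) + ω ^ (4 * 0) • (X *ᵥ (X *ᵥ v0))) +
            (v0 + ω ^ (2 * 1) • (X *ᵥ v0) + ω ^ (4 * 1) • (X *ᵥ (X *ᵥ v0))) +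
            (v0 + ω ^ (2 * 2) • (X *ᵥ v0) + ω ^ (4 * 2) • (X *ᵥ (X *ᵥ v0))) := by
          ext i
          simp only [Pi.add_apply, Pi.smul_apply, smul_eq_mul]
          linear_combination - (X *ᵥ v0) i * e4 - (X *ᵥ (X *ᵥ v0)) i * e8
        rw [this, e, e', e'']
        simp
      exact (smul_eq_zero.mp hsum).resolve_left h3F
    obtain ⟨v, k, hv0, hv⟩ := he
    have hstep : ∀ (j k : ℕ) (v : Fin 3 → F), v ≠ 0 → X *ᵥ v = ω ^ k • v →
        ∃ v' : Fin 3 → F, v' ≠ 0 ∧ X *ᵥ v' = ω ^ (k + j) • v' := by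
      intro j
      induction j with
      | zero => intro k v h0 h1; exact ⟨v, h0, h1⟩
      | succ j ih =>
        intro k v h0 h1
        obtain ⟨v', h0', h1'⟩ := ih (k + 1) (Y *ᵥ v) (fun h => h0 (hYinj _ h)) (by
          rw [hXY, h1, Matrix.mulVec_smul, smul_smul, pow_succ, mul_comm])
        exact ⟨v', h0', by rw [h1']; congr 2; ring⟩
    obtain ⟨v', h0', h1'⟩ := hstep (2 * k) k v hv0 hv
    refine ⟨v', h0', ?_⟩
    rw [h1', show k + 2 * k = 3 * k by ring, pow_mul, hω3, one_pow, one_smul]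
  have hUx := unitary h hq h1 h3 hx
  have hUy := unitary h hq h1 h3 hy
  rw [← hXdef] at hUx
  rw [← hYdef] at hUy
  have hσω : σ ω = ω ^ 2 := by
    rw [h.val, hq]
    linear_combination ω ^ 2 * hω3
  -- the orbit of v
  let w0 : Fin 3 → (Fin 3 → F) := ![v, Y *ᵥ v, Y *ᵥ (Y *ᵥ v)]
  have hx0 : ∀ i, X *ᵥ w0 i = ω ^ (i : ℕ) • w0 i := by
    intro i
    fin_cases i
    · simpa [w0] using hv
    · change X *ᵥ (Y *ᵥ v) = ω ^ 1 • (Y *ᵥ v)
      rw [hXY, hv, pow_one]
    · change X *ᵥ (Y *ᵥ (Y *ᵥ v)) = ω ^ 2 • (Y *ᵥ (Y *ᵥ v))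
      rw [hXY, hXY, hv, Matrix.mulVec_smul, smul_smul, pow_two]
  have hy0 : ∀ i, Y *ᵥ w0 i = w0 (i + 1) := by
    intro i
    fin_cases i
    · rfl
    · rfl
    · exact hY v
  have horth : ∀ i j, i ≠ j → hermForm 3 F q (w0 i) (w0 j) = 0 := by
    intro i j hij
    have h6 := hUx (w0 i) (w0 j)
    rw [hx0, hx0, hS.smul_left, hS.smul_right, map_pow, hσω] at h6
    have h7 : (ω ^ (i : ℕ) * (ω ^ 2) ^ (j : ℕ) - 1) * hermForm 3 F q (w0 i) (w0 j) = 0 := by linear_combination h6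
    rcases mul_eq_zero.mp h7 with h8 | h8
    · exfalso
      apply hω1
      have hi := sub_eq_zero.mp h8
      fin_cases i <;> fin_cases j
      · exact absurd rfl hij
      · change ω ^ 0 * (ω ^ 2) ^ 1 = 1 at hi
        linear_combination hω3 - ω * hi
      · change ω ^ 0 * (ω ^ 2) ^ 2 = 1 at hi
        linear_combination hi - ω * hω3
      · change ω ^ 1 * (ω ^ 2) ^ 0 = 1 at hi
        linear_combination hi
      · exact absurd rfl hij
      · change ω ^ 1 * (ω ^ 2) ^ 2 = 1 at hi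
        linear_combination hω3 - ω * (hi - ω ^ 2 * hω3)
      · change ω ^ 2 * (ω ^ 2) ^ 0 = 1 at hi
        linear_combination hω3 - ω * hi
      · change ω ^ 2 * (ω ^ 2) ^ 1 = 1 at hi
        linear_combination hi - ω * hω3
      · exact absurd rfl hij
    · exact h8
  have hdiag : ∀ i, hermForm 3 F q (w0 i) (w0 i) = hermForm 3 F q v v := by
    intro i
    fin_cases i
    · rfl
    · exact hUy v v
    · exact (hUy _ _).trans (hUy v v)
  -- independence
  have hli0 : ∀ c : Fin 3 → F, ∑ j, c j • w0 j = 0 → c = 0 := by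
    intro c hc
    have hc1 := congrArg (fun u => X *ᵥ u) hc
    have hc2 := congrArg (fun u => X *ᵥ (X *ᵥ u)) hc
    simp only [Fin.sum_univ_three, Matrix.mulVec_add, Matrix.mulVec_smul, hx0, Matrix.mulVec_zero, smul_smul] at hc hc1 hc2
    have hv0' : ((0 : Fin 3) : ℕ) = 0 := rfl
    have hv1' : ((1 : Fin 3) : ℕ) = 1 := rfl
    have hv2' : ((2 : Fin 3) : ℕ) = 2 := rfl
    rw [hv0', hv1', hv2'] at hc1 hc2
    have hw0 : ∀ j, w0 j ≠ 0 := by
      intro j
      fin_cases j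
      · exact hv0
      · exact fun h => hv0 (hYinj _ h)
      · exact fun h => hv0 (hYinj _ (hYinj _ h))
    have hz : ∀ j, ∀ i, 3 * c j * w0 j i = 0 := by
      intro j i
      have e0 := congrFun hc i
      have e1 := congrFun hc1 i
      have e2 := congrFun hc2 i
      simp only [Pi.add_apply, Pi.smul_apply, smul_eq_mul, Pi.zero_apply] at e0 e1 e2
      fin_cases j
      · change 3 * c 0 * w0 0 i = 0
        linear_combination e0 + e1 + e2 - (c 1 * w0 1 i) * hω - (c 2 * w0 2 i) * (ω ^ 2 - ω + 1) * hω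
      · change 3 * c 1 * w0 1 i = 0
        linear_combination e0 + ω ^ 2 * e1 + ω * e2 - (c 0 * w0 0 i) * hω - 2 * (c 1 * w0 1 i) * hω3 -
          (c 2 * w0 2 i) * (hω + ω * hω3 + ω ^ 2 * hω3)
      · change 3 * c 2 * w0 2 i = 0
        linear_combination e0 + ω * e1 + ω ^ 2 * e2 - (c 0 * w0 0 i) * hω - (c 1 * w0 1 i) * (ω ^ 2 - ω + 1) * hω -
          (c 2 * w0 2 i) * ((ω ^ 3 + 2) * hω3)
    ext j
    obtain ⟨i, hi⟩ := Function.ne_iff.mp (hw0 j)
    have h8 := hz j i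
    rcases mul_eq_zero.mp h8 with h9 | h9
    · rcases mul_eq_zero.mp h9 with h10 | h10
      · exact absurd h10 h3F
      · exact h10
    · exact absurd h9 hi
  -- normalisation
  have ha0 : hermForm 3 F q v v ≠ 0 := by
    intro h0
    obtain ⟨u, hu⟩ := h.form.nd v hv0
    apply hu
    obtain ⟨Q, hQ⟩ := exists_cols hli0
    have hexp : u = ∑ j, (((Q⁻¹ : GL (Fin 3) F) : Matrix (Fin 3) (Fin 3) F) *ᵥ u) j • w0 j := by
      rw [← hQ, Matrix.mulVec_mulVec, Units.mul_inv, Matrix.one_mulVec]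
    rw [hexp, hS.sum_right]
    apply Finset.sum_eq_zero
    intro j _
    rw [hS.smul_right]
    by_cases hj : j = 0
    · subst hj
      change _ * hermForm 3 F q v v = 0
      rw [h0, mul_zero]
    · have := horth 0 j (Ne.symm hj)
      change _ * hermForm 3 F q (w0 0) (w0 j) = 0
      rw [this, mul_zero]
  have haσ : σ (hermForm 3 F q v v) = hermForm 3 F q v v := by
    have := h.form.herm v v
    rw [one_mul] at this
    exact this.symm
  obtain ⟨b, hb0, hb⟩ := h.norm ha0 haσ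
  have hσb0 : σ b ≠ 0 := (map_ne_zero σ).mpr hb0
  let w : Fin 3 → (Fin 3 → F) := fun i => b⁻¹ • w0 i
  have hxw : ∀ i, X *ᵥ w i = ω ^ (i : ℕ) • w i := by
    intro i
    simp only [w]
    rw [Matrix.mulVec_smul, hx0, smul_comm]
  have hyw : ∀ i, Y *ᵥ w i = w (i + 1) := by
    intro i
    simp only [w]
    rw [Matrix.mulVec_smul, hy0]
  have hww : ∀ i j, hermForm 3 F q (w i) (w j) = if i = j then 1 else 0 := by
    intro i j
    simp only [w]
    rw [hS.smul_left, hS.smul_right]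
    by_cases hij : i = j
    · subst hij
      rw [if_pos rfl, hdiag, ← hb, map_inv₀]
      field_simp
    · rw [if_neg hij, horth i j hij, mul_zero, mul_zero]
  clear_value w
  refine ⟨w, ω, x, y, hω, hω1, hww, hx, hy, hxw, hyw, ?_⟩
  intro g hg
  -- powers of ω
  have hpow : ∀ c : F, c ^ 3 = 1 → ∃ m : ℕ, c = ω ^ m := by
    intro c hc
    have h6 : (c - 1) * ((c - ω) * (c - ω ^ 2)) = 0 := by
      linear_combination hc - c * (c - 1) * hω + (c - 1) * hω3
    rcases mul_eq_zero.mp h6 with h7 | h7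
    · exact ⟨0, by rw [pow_zero]; exact sub_eq_zero.mp h7⟩
    · rcases mul_eq_zero.mp h7 with h8 | h8
      · exact ⟨1, by rw [pow_one]; exact sub_eq_zero.mp h8⟩
      · exact ⟨2, sub_eq_zero.mp h8⟩
  obtain ⟨c1, hc1, hgx⟩ := hkey g hg x hx
  obtain ⟨c2, hc2, hgy⟩ := hkey g hg y hy
  obtain ⟨m, rfl⟩ := hpow c1 hc1
  obtain ⟨n, rfl⟩ := hpow c2 hc2
  have hYX : Y * X = ω ^ 2 • (X * Y) := by
    rw [hxy, smul_smul]
    have : ω ^ 2 * ω = 1 := by linear_combination hω3
    rw [this, one_smul]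
  set E := X ^ n * Y ^ (2 * m) with hE
  have hEX : E * X = ω ^ m • (X * E) := by
    rw [hE, Matrix.mul_assoc, ypow hYX, Matrix.mul_smul, ← Matrix.mul_assoc, ← Matrix.mul_assoc, ← pow_succ, ← pow_succ']
    congr 1
    rw [← pow_mul, show 2 * (2 * m) = 3 * m + m by ring, pow_add, pow_mul, hω3, one_pow, one_mul]
  have hEY : E * Y = ω ^ n • (Y * E) := by
    rw [hE, Matrix.mul_assoc, ← pow_succ, pow_succ', ← Matrix.mul_assoc, ypow hxy, Matrix.smul_mul, Matrix.mul_assoc]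
  have hDX := comm3 (by rw [← pow_mul, mul_comm, pow_mul, hω3, one_pow]) hgx hEX
  have hDY := comm3 (by rw [← pow_mul, mul_comm, pow_mul, hω3, one_pow]) hgy hEY
  let e : GL (Fin 3) F := x ^ n * y ^ (2 * m)
  have heR : e ∈ R := R.mul_mem (R.pow_mem hx _) (R.pow_mem hy _)
  have heE : (e : Matrix (Fin 3) (Fin 3) F) = E := by
    rw [hE, hXdef, hYdef, ← Units.val_pow_eq_pow_val, ← Units.val_pow_eq_pow_val, ← Units.val_mul]
  let d : GL (Fin 3) F := g * (e * e)
  have hdR : d ∈ R := R.mul_mem hg (R.mul_mem heR heR)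
  set D := (g : Matrix (Fin 3) (Fin 3) F) * (E * E) with hD
  have hdD : (d : Matrix (Fin 3) (Fin 3) F) = D := by
    rw [hD, ← heE, ← Units.val_mul, ← Units.val_mul]
  have hDXv : ∀ u, D *ᵥ (X *ᵥ u) = X *ᵥ (D *ᵥ u) := by
    intro u
    rw [Matrix.mulVec_mulVec, Matrix.mulVec_mulVec, hDX]
  have hDYv : ∀ u, D *ᵥ (Y *ᵥ u) = Y *ᵥ (D *ᵥ u) := by
    intro u
    rw [Matrix.mulVec_mulVec, Matrix.mulVec_mulVec, hDY]
  obtain ⟨lam, hlam0⟩ : ∃ lam : F, D *ᵥ w 0 = lam • w 0 := by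
    have hXw0 : X *ᵥ (w 0) = w 0 := by
      have := hxw 0
      simpa using this
    have hfix : X *ᵥ (D *ᵥ w 0) = D *ᵥ w 0 := by rw [← hDXv, hXw0]
    have hcz : ∀ j : Fin 3, (σ (ω ^ (j : ℕ)) - 1) * hermForm 3 F q (D *ᵥ w 0) (w j) = 0 := by
      intro j
      have h6 := hUx (D *ᵥ w 0) (w j)
      rw [hfix, hxw, hS.smul_right] at h6
      linear_combination h6
    refine ⟨hermForm 3 F q (D *ᵥ w 0) (w 0), ?_⟩
    have h7 := frame_exp h hww (D *ᵥ w 0)
    rw [Fin.sum_univ_three] at h7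
    have h8 : hermForm 3 F q (D *ᵥ w 0) (w 1) = 0 := by
      rcases mul_eq_zero.mp (hcz 1) with h9 | h9
      · exfalso
        have h10 : σ (ω ^ ((1 : Fin 3) : ℕ)) = 1 := sub_eq_zero.mp h9
        change σ (ω ^ 1) = 1 at h10
        rw [pow_one, hσω] at h10
        apply hω1
        linear_combination hω3 - ω * h10
      · exact h9
    have h8' : hermForm 3 F q (D *ᵥ w 0) (w 2) = 0 := by
      rcases mul_eq_zero.mp (hcz 2) with h9 | h9
      · exfalso
        have h10 : σ (ω ^ ((2 : Fin 3) : ℕ)) = 1 := sub_eq_zero.mp h9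
        change σ (ω ^ 2) = 1 at h10
        rw [map_pow, hσω] at h10
        apply hω1
        linear_combination h10 - ω * hω3
      · exact h9
    rw [h8, h8', zero_smul, zero_smul, add_zero, add_zero] at h7
    exact h7
  have hlam1 : D *ᵥ w 1 = lam • w 1 := by
    have : w 1 = Y *ᵥ w 0 := (hyw 0).symm
    rw [this, hDYv, hlam0, Matrix.mulVec_smul]
  have hlam2 : D *ᵥ w 2 = lam • w 2 := by
    have : w 2 = Y *ᵥ w 1 := (hyw 1).symm
    rw [this, hDYv, hlam1, Matrix.mulVec_smul]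
  have hDall : ∀ v, D *ᵥ v = lam • v := by
    intro v
    rw [frame_exp h hww v, Fin.sum_univ_three, Matrix.mulVec_add, Matrix.mulVec_add, Matrix.mulVec_smul,
      Matrix.mulVec_smul, Matrix.mulVec_smul, hlam0, hlam1, hlam2, smul_add, smul_add, smul_comm lam, smul_comm lam,
      smul_comm lam]
  have hlam3 : lam ^ 3 = 1 := by
    have h6 := hcub d hdR (w 0)
    rw [hdD, hDall, hDall, hDall, smul_smul, smul_smul] at h6
    have h7 := congrArg (fun u => hermForm 3 F q u (w 0)) h6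
    beta_reduce at h7
    rw [hS.smul_left, hww, if_pos rfl, mul_one] at h7
    rw [← h7]; ring
  obtain ⟨c, hc⟩ := hpow lam hlam3
  refine ⟨n, 2 * m, c, ?_⟩
  have hE3 : E * E * E = 1 := by
    have := congrArg Units.val (cube h1 heR)
    rw [Units.val_pow_eq_pow_val, Units.val_one, heE] at this
    rw [← this]; noncomm_ring
  have hG : (g : Matrix (Fin 3) (Fin 3) F) = D * E := by
    rw [hD, Matrix.mul_assoc, hE3, Matrix.mul_one]
  rw [hG, ← hc]
  apply matrix_ext_vec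
  intro v
  rw [← Matrix.mulVec_mulVec, hDall, Matrix.smul_mulVec]

end H22.U35C
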